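/-
Perfect subnormal subgroups and the solvable radical: C-components map to simple components of
`X` modulo its radical (helper9).
-/
import Mathlib
import Cfsg.Prelude.Def_RootSubgroups
import Cfsg.Prelude.Def_Quasithin
import Cfsg.Agent.CompLayer
import Cfsg.Agent.H16.OddOrder

set_option autoImplicit false

namespace Cfsg.Agent.H9.QT

variable {X : Type*} [Group X] [Finite X]

theorem eq_bot_of_perfect_le_solvable {H R : Subgroup X} (hH : ⁅H, H⁆ = H) (hHR : H ≤ R)
    (hR : Group.IsSolvable R) : H = ⊥ := by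
  by_contra hne
  have h1 : H.subgroupOf R ≠ ⊥ := fun h => hne (by
    rw [← Subgroup.map_subgroupOf_eq_of_le hHR, h, Subgroup.map_bot])
  have h2 := hR.commutator_lt_of_ne_bot h1
  refine h2.ne (Subgroup.map_injective R.subtype_injective ?_)
  rw [Subgroup.map_commutator, Subgroup.map_subgroupOf_eq_of_le hHR, hH]

theorem exists_perfect_of_not_solvable {M : Subgroup X} (h : ¬ Group.IsSolvable M) :
    ∃ P : Subgroup X, P ≤ M ∧ P ≠ ⊥ ∧ ⁅P, P⁆ = P := by
  rw [Group.isSolvable_iff_commutator_lt] at h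
  push Not at h
  obtain ⟨H, hH, hlt⟩ := h
  have heq : ⁅H, H⁆ = H := (eq_or_lt_of_le (Subgroup.commutator_le_self H)).resolve_right hlt
  refine ⟨H.map M.subtype, Subgroup.map_subtype_le _, ?_, ?_⟩
  · rwa [Ne, Subgroup.map_eq_bot_iff_of_injective _ M.subtype_injective]
  · rw [← Subgroup.map_commutator, heq]

theorem solvable_of_le {H K : Subgroup X} (h : H ≤ K) (hK : Group.IsSolvable K) : Group.IsSolvable H :=
  Group.isSolvable_of_isSolvable_injective (Subgroup.inclusion_injective h)

theorem solvable_map {Y : Type*} [Group Y] (f : X →* Y) {H : Subgroup X} (hH : Group.IsSolvable H) :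
    Group.IsSolvable (H.map f) :=
  Group.isSolvable_of_surjective (f.subgroupMap_surjective H)

/-- The perfect core of a subgroup. -/
def pcore (M : Subgroup X) : Subgroup X := sSup {L : Subgroup X | L ≤ M ∧ ⁅L, L⁆ = L}

theorem pcore_le (M : Subgroup X) : pcore M ≤ M := sSup_le fun _ h => h.1

theorem pcore_perfect (M : Subgroup X) : ⁅pcore M, pcore M⁆ = pcore M :=
  Comp.sSup_perfect _ fun _ h => h.2

theorem le_pcore {L M : Subgroup X} (h1 : L ≤ M) (h2 : ⁅L, L⁆ = L) : L ≤ pcore M := le_sSup ⟨h1, h2⟩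

theorem pcore_ne_bot {M : Subgroup X} (h : ¬ Group.IsSolvable M) : pcore M ≠ ⊥ := by
  obtain ⟨P, h1, h2, h3⟩ := exists_perfect_of_not_solvable h
  exact fun h0 => h2 (le_bot_iff.mp (h0 ▸ le_pcore h1 h3))

theorem pcore_map_conj (M : Subgroup X) {g : X} (hg : g ∈ Subgroup.normalizer (M : Set X)) :
    g ∈ Subgroup.normalizer (pcore M : Set X) := by
  refine Subgroup.mem_normalizer_fintype fun x hx => ?_
  refine le_pcore (L := (pcore M).map (MulAut.conj g).toMonoidHom) ?_ ?_ ⟨x, hx, rfl⟩
  · exact (Subgroup.map_mono (pcore_le M)).trans (Comp.map_conj_eq_of_mem_normalizer hg).le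
  · rw [← Subgroup.map_commutator, pcore_perfect]

theorem pcore_normal {M : Subgroup X} (hM : M.Normal) : (pcore M).Normal := by
  rw [← Subgroup.normalizer_eq_top_iff, eq_top_iff]
  intro g _
  exact pcore_map_conj M (by rw [Subgroup.normalizer_eq_top_iff.mpr hM]; trivial)

theorem pcore_subnormal {M : Subgroup X} (hM : M.IsSubnormal) : (pcore M).IsSubnormal := by
  refine Subgroup.IsSubnormal.trans (pcore_le M) (Subgroup.Normal.isSubnormal ?_) hM
  exact Subgroup.normal_subgroupOf_of_le_normalizer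
    fun g hg => pcore_map_conj M (Subgroup.le_normalizer hg)

/-- A subgroup containing the perfect `P` modulo a solvable normal subgroup contains it. -/
theorem perfect_le_of_le_sup {P R : Subgroup X} [R.Normal] (hP : ⁅P, P⁆ = P) (hR : Group.IsSolvable R)
    {K : Subgroup X} (hK : K.IsSubnormal) (h : P ≤ K ⊔ R) : P ≤ K := by
  induction hK with
  | top => exact le_top
  | step H M hle _ hN ih =>
    have hPM : P ≤ M := ih (h.trans (sup_le_sup_right hle R))
    have hN' := hN
    set π := QuotientGroup.mk' (H.subgroupOf M)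
    have hPH : (P.subgroupOf M).map π ≤ (R.subgroupOf M).map π := by
      rintro _ ⟨x, hx, rfl⟩
      have hx' : (x : X) ∈ ((H ⊔ R : Subgroup X) : Set X) := h hx
      rw [Subgroup.mul_normal] at hx'
      obtain ⟨a, ha, r, hr, har⟩ := hx'
      have hrM : r ∈ M := by
        have h3 : r = a⁻¹ * x := eq_inv_mul_of_mul_eq har
        rw [h3]
        exact mul_mem (inv_mem (hle ha)) x.2
      refine ⟨⟨r, hrM⟩, hr, ?_⟩
      have h1 : x = ⟨a, hle ha⟩ * ⟨r, hrM⟩ := Subtype.ext har.symm
      rw [h1, map_mul, show π ⟨a, hle ha⟩ = 1 from (QuotientGroup.eq_one_iff _).mpr ha, one_mul]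
    have hperf : ⁅P.subgroupOf M, P.subgroupOf M⁆ = P.subgroupOf M := by
      apply Subgroup.map_injective M.subtype_injective
      rw [Subgroup.map_commutator, Subgroup.map_subgroupOf_eq_of_le hPM, hP]
    have hbot : (P.subgroupOf M).map π = ⊥ := by
      refine eq_bot_of_perfect_le_solvable (by rw [← Subgroup.map_commutator, hperf]) hPH ?_
      exact solvable_map π (Group.isSolvable_of_isSolvable_injective
        (f := (M.subtype.comp (R.subgroupOf M).subtype).codRestrict R fun y => y.2)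
        (fun u v huv => Subtype.ext (Subtype.ext (congrArg Subtype.val huv :))))
    intro p hp
    have h1 : π ⟨p, hPM hp⟩ = 1 := by
      rw [← Subgroup.mem_bot, ← hbot]
      exact ⟨⟨p, hPM hp⟩, hp, rfl⟩
    exact (@QuotientGroup.eq_one_iff _ _ _ hN' (⟨p, hPM hp⟩ : M)).mp h1

/-! ### The solvable radical -/

theorem rad_spec : (Cfsg.solvableRadical X).Normal ∧ Group.IsSolvable ↥(Cfsg.solvableRadical X) := by
  obtain ⟨R, ⟨hRn, hRs⟩, hmax⟩ := Set.Finite.exists_maximal
    (Set.toFinite {N : Subgroup X | N.Normal ∧ Group.IsSolvable N})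
    ⟨⊥, Subgroup.normal_bot, inferInstance⟩
  suffices h : Cfsg.solvableRadical X = R by rw [h]; exact ⟨hRn, hRs⟩
  refine le_antisymm (sSup_le fun N hN => ?_) (le_sSup ⟨hRn, hRs⟩)
  have := hN.1
  have hsol : Group.IsSolvable (N ⊔ R : Subgroup X) := by
    set f := ((QuotientGroup.mk' R).subgroupMap (N ⊔ R))
    have h1 : Group.IsSolvable ((N ⊔ R).map (QuotientGroup.mk' R)) := by
      rw [Subgroup.map_sup, (Subgroup.map_eq_bot_iff R).mpr (QuotientGroup.ker_mk' R).ge, sup_bot_eq]
      exact solvable_map _ hN.2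
    refine Group.isSolvable_of_ker_le_range (Subgroup.inclusion le_sup_right) f ?_
    intro x hx
    have hx' : (x : X) ∈ R := (QuotientGroup.eq_one_iff _).mp (congrArg Subtype.val hx)
    exact ⟨⟨x, hx'⟩, Subtype.ext rfl⟩
  exact le_sup_left.trans (hmax ⟨Subgroup.sup_normal N R, hsol⟩ le_sup_right)

theorem le_rad {N : Subgroup X} (h1 : N.Normal) (h2 : Group.IsSolvable N) : N ≤ Cfsg.solvableRadical X :=
  le_sSup ⟨h1, h2⟩

theorem rad_quotient (R : Subgroup X) [R.Normal] (hR : R = Cfsg.solvableRadical X) :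
    Cfsg.solvableRadical (X ⧸ R) = ⊥ := by
  set π := QuotientGroup.mk' R
  obtain ⟨hn, hs⟩ := rad_spec (X := X ⧸ R)
  set N := (Cfsg.solvableRadical (X ⧸ R)).comap π
  have hker : R ≤ N := fun x hx => by
    show π x ∈ Cfsg.solvableRadical (X ⧸ R)
    rw [show π x = 1 from (QuotientGroup.eq_one_iff x).mpr hx]
    exact one_mem _
  have hsol : Group.IsSolvable N := by
    have h1 : Group.IsSolvable (N.map π) := by
      rw [Subgroup.map_comap_eq_self_of_surjective (QuotientGroup.mk'_surjective R)]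
      exact hs
    have hRs : Group.IsSolvable R := hR ▸ (rad_spec (X := X)).2
    refine Group.isSolvable_of_ker_le_range (Subgroup.inclusion hker) (π.subgroupMap N) ?_
    intro x hx
    have hx' : (x : X) ∈ R := (QuotientGroup.eq_one_iff _).mp (congrArg Subtype.val hx)
    exact ⟨⟨x, hx'⟩, Subtype.ext rfl⟩
  have h2 : N ≤ R := hR ▸ le_rad (hn.comap π) hsol
  refine eq_bot_iff.mpr fun y hy => ?_
  obtain ⟨x, rfl⟩ := QuotientGroup.mk'_surjective R y
  exact Subgroup.mem_bot.mpr ((QuotientGroup.eq_one_iff x).mpr (h2 hy))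

section TrivialRadical

variable (hX : Cfsg.solvableRadical X = ⊥)
include hX

theorem fitting_eq_bot : Cfsg.fittingSubgroup X = ⊥ := by
  refine le_bot_iff.mp (hX ▸ sSup_le fun N hN => ?_)
  have := hN.2
  exact le_rad hN.1 inferInstance

theorem eq_bot_of_solvable_subnormal {N : Subgroup X} (hN : N.IsSubnormal) (hs : Group.IsSolvable N) :
    N = ⊥ := by
  by_contra hne
  -- the last nontrivial term of the derived series
  obtain ⟨n, hn⟩ := (Group.isSolvable_def N).mp hs
  classical
  have hex : ∃ n, derivedSeries N n = ⊥ := ⟨n, hn⟩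
  have h0 : Nat.find hex ≠ 0 := by
    intro h
    have h1 := Nat.find_spec hex
    rw [h, derivedSeries_zero] at h1
    apply hne
    rw [← Subgroup.range_subtype N, MonoidHom.range_eq_map, h1, Subgroup.map_bot]
  obtain ⟨m, hm⟩ := Nat.exists_eq_succ_of_ne_zero h0
  set D := derivedSeries N m
  have hDne : D ≠ ⊥ := Nat.find_min hex (by omega)
  have hDab : ⁅D, D⁆ = ⊥ := by
    rw [← derivedSeries_succ, ← Nat.succ_eq_add_one, ← hm]
    exact Nat.find_spec hex
  set A := D.map N.subtype
  have hA : A.IsSubnormal := Subgroup.IsSubnormal.trans' (derivedSeries_normal N m).isSubnormal hN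
  have hAn : Group.IsNilpotent A := by
    apply Comp.isNilpotent_of_commutator_commutator
    rw [← Subgroup.map_commutator, hDab, Subgroup.map_bot, Subgroup.commutator_bot_left]
  have h2 : A ≤ ⊥ := fitting_eq_bot hX ▸ Comp.le_fitting_of_subnormal hA hAn
  exact hDne ((Subgroup.map_eq_bot_iff_of_injective _ N.subtype_injective).mp (le_bot_iff.mp h2))

theorem component_simple {S : Subgroup X} (hS : IsComponent S) : IsSimpleGroup S := by
  have := Comp.nontrivial_of_quasisimple hS.2
  have hz : Subgroup.center S = ⊥ := by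
    have hsn : ((Subgroup.center S).map S.subtype).IsSubnormal :=
      Subgroup.IsSubnormal.trans' (inferInstance : (Subgroup.center S).Normal).isSubnormal hS.1
    have h1 := eq_bot_of_solvable_subnormal hX hsn (solvable_map _ (Group.isSolvable_of_comm fun a b => Subtype.ext (Subgroup.mem_center_iff.mp b.2 a)))
    exact (Subgroup.map_eq_bot_iff_of_injective _ S.subtype_injective).mp h1
  refine ⟨fun N hN => ?_⟩
  rcases Comp.normal_eq_top_or_le_center hS.2 hN with h | h
  · exact .inr h
  · exact .inl (le_bot_iff.mp (hz ▸ h))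

theorem fStar_eq_layer : Cfsg.generalizedFittingSubgroup X = Cfsg.layer X := by
  rw [generalizedFittingSubgroup, fitting_eq_bot hX, sup_bot_eq]

theorem centralizer_layer_eq_bot : Subgroup.centralizer (Cfsg.layer X : Set X) = ⊥ := by
  have h0 := Comp.centralizer_fStar_le (G := X)
  rw [fStar_eq_layer hX] at h0
  -- the centralizer meets the layer in its centre, which is solvable and normal
  set C := Subgroup.centralizer (Cfsg.layer X : Set X)
  have hsol : Group.IsSolvable C := Group.isSolvable_of_comm fun a b => Subtype.ext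
    (Subgroup.mem_centralizer_iff.mp b.2 a (h0 a.2))
  have hCn : C.Normal := inferInstance
  exact le_bot_iff.mp (hX ▸ le_rad hCn hsol)

theorem odd_subnormal_eq_bot {N : Subgroup X} (hN : N.IsSubnormal) (h : ¬ 2 ∣ Nat.card N) : N = ⊥ :=
  eq_bot_of_solvable_subnormal hX hN (H16.FT.oddOrder (by rw [Nat.odd_iff]; omega))

end TrivialRadical

/-! ### C-components -/

section CComponents

variable (R : Subgroup X) [R.Normal] (hR : R = Cfsg.solvableRadical X)
include hR

theorem not_le_rad {K : Subgroup X} (hK : ⁅K, K⁆ = K) (hne : K ≠ ⊥) : ¬ K ≤ R := fun h =>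
  hne (eq_bot_of_perfect_le_solvable hK h (hR ▸ rad_spec.2))

theorem calC_component {K : Subgroup X} (hK : K ∈ Cfsg.calC X) :
    IsComponent (K.map (QuotientGroup.mk' R)) := by
  obtain ⟨hne, hperf, hsn, hmin⟩ := hK
  set π := QuotientGroup.mk' R
  have hX := rad_quotient R hR
  have hsn' : (K.map π).IsSubnormal := hsn.map (QuotientGroup.mk'_surjective R)
  have hne' : K.map π ≠ ⊥ := by
    rw [Ne, Subgroup.map_eq_bot_iff, QuotientGroup.ker_mk']
    exact not_le_rad R hR hperf hne
  have := (Subgroup.nontrivial_iff_ne_bot _).mpr hne'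
  have hperf' : ⁅K.map π, K.map π⁆ = K.map π := by rw [← Subgroup.map_commutator, hperf]
  refine ⟨hsn', Comp.isQuasisimple_of_dichotomy
    (Group.isPerfect_def.mp (Subgroup.isPerfect_iff.mpr hperf')) fun N hN => ?_⟩
  set N₀ := N.map (K.map π).subtype
  set N' := K ⊓ N₀.comap π
  have hN' : N'.IsSubnormal := hsn.inf
    ((Subgroup.IsSubnormal.trans' hN.isSubnormal hsn').comap π)
  by_cases hs : Group.IsSolvable N'
  · right
    have h1 : N₀ ≤ N'.map π := by
      rintro _ ⟨⟨y, hy⟩, hyN, rfl⟩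
      obtain ⟨x, hx, rfl⟩ := hy
      exact ⟨x, ⟨hx, ⟨⟨π x, x, hx, rfl⟩, hyN, rfl⟩⟩, rfl⟩
    have h2 : N₀ = ⊥ := eq_bot_of_solvable_subnormal hX
      (Subgroup.IsSubnormal.trans' hN.isSubnormal hsn') (solvable_of_le h1 (solvable_map _ hs))
    rw [(Subgroup.map_eq_bot_iff_of_injective _ (K.map π).subtype_injective).mp h2]
    exact bot_le
  · left
    have hle : pcore N' ≤ K := (pcore_le N').trans inf_le_left
    have heq : pcore N' = K := by
      by_contra hne0
      exact hmin _ (lt_of_le_of_ne hle hne0) ⟨pcore_ne_bot hs, pcore_perfect _, pcore_subnormal hN'⟩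
    rw [eq_top_iff]
    rintro ⟨y, x, hx, rfl⟩ -
    obtain ⟨z, hz, hzx⟩ := (pcore_le N' (heq.symm ▸ hx : x ∈ pcore N')).2
    have : z = ⟨π x, x, hx, rfl⟩ := Subtype.ext hzx
    exact this ▸ hz

theorem calC_eq_of_map_le {K K' : Subgroup X} (hK : K ∈ Cfsg.calC X) (hK' : K' ∈ Cfsg.calC X)
    (h : K.map (QuotientGroup.mk' R) ≤ K'.map (QuotientGroup.mk' R)) : K = K' := by
  have h1 : K ≤ K' ⊔ R := by
    rw [Subgroup.map_le_map_iff, QuotientGroup.ker_mk'] at h
    exact h
  have h2 : K ≤ K' := perfect_le_of_le_sup hK.2.1 (hR ▸ rad_spec.2) hK'.2.2.1 h1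
  by_contra hne
  exact hK'.2.2.2 K (lt_of_le_of_ne h2 hne) ⟨hK.1, hK.2.1, hK.2.2.1⟩

theorem exists_calC_of_component {S : Subgroup (X ⧸ R)} (hS : IsComponent S) :
    ∃ K ∈ Cfsg.calC X, K.map (QuotientGroup.mk' R) = S ∧
      ∀ L : Subgroup X, ⁅L, L⁆ = L → L.map (QuotientGroup.mk' R) ≤ S → L ≤ K := by
  set π := QuotientGroup.mk' R
  have hX := rad_quotient R hR
  set P := S.comap π
  have hPs : P.IsSubnormal := hS.1.comap π
  have hPns : ¬ Group.IsSolvable P := fun h => Comp.isComponent_not_isSolvable hS (by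
    have := solvable_map π h
    rwa [Subgroup.map_comap_eq_self_of_surjective (QuotientGroup.mk'_surjective R)] at this)
  set K := pcore P
  have hperf : ⁅K, K⁆ = K := pcore_perfect P
  have hsub : K.map π ≤ S := Subgroup.map_le_iff_le_comap.mpr (pcore_le P)
  have hsimp := component_simple hX hS
  have key : ∀ K' : Subgroup X, K' ≠ ⊥ → ⁅K', K'⁆ = K' → K'.IsSubnormal → K' ≤ K → K'.map π = S := by
    intro K' h1 h2 h3 h4
    have h5 : K'.map π ≤ S := (Subgroup.map_mono h4).trans hsub
    rcases ((h3.map (QuotientGroup.mk'_surjective R)).subgroupOf (K := S)).eq_bot_or_top_of_isSimpleGroup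
      hsimp with h | h
    · exfalso
      refine not_le_rad R hR h2 h1 ?_
      rw [← QuotientGroup.ker_mk' R, ← Subgroup.map_eq_bot_iff,
        ← Subgroup.map_subgroupOf_eq_of_le h5, h, Subgroup.map_bot]
    · exact le_antisymm h5 (Subgroup.subgroupOf_eq_top.mp h)
  have hKS := key K (pcore_ne_bot hPns) hperf (pcore_subnormal hPs) le_rfl
  refine ⟨K, ⟨pcore_ne_bot hPns, hperf, pcore_subnormal hPs, ?_⟩, hKS, ?_⟩
  · rintro K' hlt ⟨h1, h2, h3⟩
    have h4 := key K' h1 h2 h3 hlt.le
    have h5 : K ≤ K' ⊔ R := by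
      have h6 : K.map π ≤ K'.map π := (hKS.trans h4.symm).le
      rwa [Subgroup.map_le_map_iff, QuotientGroup.ker_mk'] at h6
    exact hlt.not_ge (perfect_le_of_le_sup hperf (hR ▸ rad_spec.2) h3 h5)
  · intro L hL hLS
    exact le_pcore (Subgroup.map_le_iff_le_comap.mp hLS) hL

end CComponents

end Cfsg.Agent.H9.QT
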