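/-
The centralizing-Sylow lemma (helper9): a perfect group all whose normal subgroups are trivial,
normalising a subgroup `E` with trivial odd core and centralising a Sylow 2-subgroup of `E`,
centralises `E`.
-/
import Mathlib
import Cfsg.Agent.CompBasic
import Cfsg.Agent.H71.Goldschmidt
import Cfsg.Agent.H85.BrauerSuzuki
import Cfsg.Agent.H1.Cores

set_option autoImplicit false

namespace Cfsg.Agent.H9.QT

open scoped Pointwise

variable {X : Type*} [Group X] [Finite X]

/-- In a group with a central subgroup containing all 2-elements the commutators have odd order. -/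
theorem odd_part_of_central_sylow {C : Type*} [Group C] [Finite C] (Z : Subgroup C)
    (hZ : Z ≤ Subgroup.center C) (hZ2 : IsPGroup 2 Z)
    (hall : ∀ c : C, IsPGroup 2 (Subgroup.zpowers c) → c ∈ Z) :
    ∀ c : C, ∃ z ∈ Z, ∃ k ∈ Cfsg.pPrimeCore 2 C, c = z * k := by
  have : Fact (Nat.Prime 2) := ⟨Nat.prime_two⟩
  have : Z.Normal := ⟨fun z hz g => by
    rw [Subgroup.mem_center_iff.mp (hZ hz) g, mul_inv_cancel_right]; exact hz⟩
  have hidx : ¬ 2 ∣ Z.index := by
    intro h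
    obtain ⟨P⟩ := (inferInstance : Nonempty (Sylow 2 C))
    have hP : (P : Subgroup C) ≤ Z := fun x hx =>
      hall x (P.2.to_le (Subgroup.zpowers_le.mpr hx))
    exact P.not_dvd_index' (fun h0 => Subgroup.index_ne_zero_of_finite h0)
      (h.trans (Subgroup.index_dvd_of_le hP))
  obtain ⟨n, hn⟩ := IsPGroup.iff_card.mp hZ2
  have hcop : (Nat.card Z).Coprime Z.index := by
    rw [hn]
    exact Nat.Coprime.pow_left n (Nat.prime_two.coprime_iff_not_dvd.mpr hidx)
  obtain ⟨K, hK⟩ := Subgroup.exists_right_complement'_of_coprime hcop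
  have hdec : ∀ c : C, ∃ z ∈ Z, ∃ k ∈ K, c = z * k := fun c => by
    obtain ⟨⟨z, k⟩, h, -⟩ := Subgroup.IsComplement.existsUnique hK c
    exact ⟨z, z.2, k, k.2, h.symm⟩
  have hKn : K.Normal := ⟨fun k hk g => by
    obtain ⟨z, hz, k', hk', rfl⟩ := hdec g
    have h1 : z * k' * k * (z * k')⁻¹ = z * (k' * k * k'⁻¹) * z⁻¹ := by group
    rw [h1, ← Subgroup.mem_center_iff.mp (hZ hz) (k' * k * k'⁻¹), mul_inv_cancel_right]
    exact mul_mem (mul_mem hk' hk) (inv_mem hk')⟩
  have hKcard : (Nat.card K).Coprime 2 := by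
    rw [← hK.symm.index_eq_card]
    exact Comp.coprime_iff_not_dvd.mpr hidx
  intro c
  obtain ⟨z, hz, k, hk, h⟩ := hdec c
  exact ⟨z, hz, k, Comp.le_pPrimeCore hKn hKcard hk, h⟩

/-- The key step: one fusion move cannot move `a`. -/
theorem step_fixes (E S L : Subgroup X) [hEn : E.Normal] (hL : ⁅L, L⁆ = L)
    (hS : S ≤ E) (hLS : L ≤ Subgroup.centralizer (S : Set X)) {a : X} (ha : a ∈ L)
    {P : Subgroup X} (hPS : P ≤ S) (hP2 : IsPGroup 2 P)
    (hall : ∀ c ∈ E ⊓ Subgroup.centralizer (P : Set X), IsPGroup 2 (Subgroup.zpowers c) → c ∈ P)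
    {e : X} (he : e ∈ E) (heP : e ∈ Subgroup.normalizer (P : Set X))
    (h2 : IsPGroup 2 (Subgroup.zpowers (e * a * e⁻¹ * a⁻¹))) :
    e * a * e⁻¹ = a := by
  have : Fact (Nat.Prime 2) := ⟨Nat.prime_two⟩
  set C := E ⊓ Subgroup.centralizer (P : Set X) with hC
  have hLP : ∀ l ∈ L, ∀ p ∈ P, p * l = l * p := fun l hl p hp =>
    Subgroup.mem_centralizer_iff.mp (hLS hl) p (hPS hp)
  set Z := P.subgroupOf C
  have hZc : Z ≤ Subgroup.center C := by
    intro z hz
    rw [Subgroup.mem_center_iff]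
    intro c
    exact Subtype.ext (Subgroup.mem_centralizer_iff.mp c.2.2 z hz).symm
  have hdec := odd_part_of_central_sylow Z hZc hP2.comap_subtype (fun c hc => by
    show (c : X) ∈ P
    refine hall c c.2 ?_
    rw [← C.coe_subtype, ← MonoidHom.map_zpowers]
    exact hc.map _)
  have hKn : (Cfsg.pPrimeCore 2 C).Normal := H1.pPrimeCore_normal' 2 _
  set π := QuotientGroup.mk' (Cfsg.pPrimeCore 2 C)
  -- commutators of `e` with `L` lie in `C`
  have hmem : ∀ l ∈ L, e * l * e⁻¹ * l⁻¹ ∈ C := by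
    intro l hl
    refine ⟨?_, Subgroup.mem_centralizer_iff.mpr fun p hp => ?_⟩
    · have h := hEn.conj_mem _ (inv_mem he) l
      have := mul_mem he h
      simpa [mul_assoc] using this
    · have hp' : e⁻¹ * p * e ∈ P := (Subgroup.mem_normalizer_iff''.mp heP p).mp hp
      have h1 := hLP l hl p hp
      have h2 := hLP l hl _ hp'
      calc p * (e * l * e⁻¹ * l⁻¹) = e * (e⁻¹ * p * e * l) * e⁻¹ * l⁻¹ := by group
        _ = e * l * e⁻¹ * (p * l⁻¹) := by rw [h2]; group
        _ = e * l * e⁻¹ * (l⁻¹ * p) := by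
          rw [show p * l⁻¹ = l⁻¹ * p from (Commute.inv_right (show Commute p l from h1)).eq]
        _ = (e * l * e⁻¹ * l⁻¹) * p := by group
  have hconj : ∀ l ∈ L, ∀ c ∈ C, l * c * l⁻¹ ∈ C := by
    intro l hl c hc
    refine ⟨hEn.conj_mem c hc.1 l, Subgroup.mem_centralizer_iff.mpr fun p hp => ?_⟩
    have h1 := hLP l hl p hp
    have h2 := Subgroup.mem_centralizer_iff.mp hc.2 p hp
    calc p * (l * c * l⁻¹) = (p * l) * c * l⁻¹ := by group
      _ = l * (p * c) * l⁻¹ := by rw [h1]; group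
      _ = l * c * (p * l⁻¹) := by rw [h2]; group
      _ = l * c * (l⁻¹ * p) := by
          rw [show p * l⁻¹ = l⁻¹ * p from (Commute.inv_right (show Commute p l from h1)).eq]
      _ = l * c * l⁻¹ * p := by group
  -- `L` acts trivially on `C` modulo the odd part
  have htriv : ∀ (l : X) (hl : l ∈ L) (c : C), π ⟨l * c * l⁻¹, hconj l hl c c.2⟩ = π c := by
    intro l hl c
    obtain ⟨z, hz, k, hk, rfl⟩ := hdec c
    have hz' : (z : X) * l = l * z := hLP l hl _ hz
    have hkc : l * (k : X) * l⁻¹ ∈ C := hconj l hl k k.2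
    have e1 : (⟨l * ((z * k : C) : X) * l⁻¹, hconj l hl _ (z * k).2⟩ : C) = z * ⟨l * (k : X) * l⁻¹, hkc⟩ := by
      refine Subtype.ext ?_
      show l * ((z : X) * k) * l⁻¹ = z * (l * k * l⁻¹)
      rw [← mul_assoc, ← hz']
      group
    rw [e1, map_mul, map_mul]
    congr 1
    have hk1 : π k = 1 := (QuotientGroup.eq_one_iff k).mpr hk
    rw [hk1]
    -- the image of an element of odd order in a 2-group is trivial
    obtain ⟨z', hz2, k', hk2, e2⟩ := hdec ⟨l * (k : X) * l⁻¹, hkc⟩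
    have hk1' : π k' = 1 := (QuotientGroup.eq_one_iff k').mpr hk2
    rw [e2, map_mul, hk1', mul_one]
    have ho : orderOf (⟨l * (k : X) * l⁻¹, hkc⟩ : C) = orderOf k := by
      rw [← Subgroup.orderOf_coe, ← Subgroup.orderOf_coe]
      exact MulEquiv.orderOf_eq (MulAut.conj l) (k : X)
    have hkodd : ¬ 2 ∣ orderOf k := fun h => Comp.not_dvd_card_pPrimeCore 2 (G := C)
      (h.trans (Subgroup.orderOf_dvd_natCard _ hk))
    have h1 : π z' ^ orderOf k = 1 := by
      have h3 : π z' = π ⟨l * (k : X) * l⁻¹, hkc⟩ := by rw [e2, map_mul, hk1', mul_one]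
      rw [h3, ← map_pow, ← ho, pow_orderOf_eq_one, map_one]
    obtain ⟨j, hj⟩ := hP2.comap_subtype (K := C) ⟨z', hz2⟩
    refine Comp.eq_one_of_pow_eq_one (p := 2) (k := j) ?_ hkodd h1
    rw [← map_pow, show z' ^ 2 ^ j = 1 from congrArg Subtype.val hj, map_one]
  have hcomm : ∀ x y : C, π x * π y = π y * π x := by
    intro x y
    obtain ⟨z, hz, k, hk, rfl⟩ := hdec x
    rw [map_mul, show π k = 1 from (QuotientGroup.eq_one_iff k).mpr hk, mul_one, ← map_mul, ← map_mul,
      Subgroup.mem_center_iff.mp (hZc hz) y]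
  let ψ : L →* C ⧸ Cfsg.pPrimeCore 2 C := MonoidHom.mk' (fun l => π ⟨_, hmem l l.2⟩) (fun l m => by
    show π _ = π _ * π _
    have e1 : (⟨_, hmem _ (l * m).2⟩ : C) =
        ⟨_, hmem l l.2⟩ * ⟨(l : X) * (e * m * e⁻¹ * (m : X)⁻¹) * (l : X)⁻¹, hconj l l.2 _ (hmem m m.2)⟩ := by
      refine Subtype.ext ?_
      show e * ((l : X) * m) * e⁻¹ * ((l : X) * m)⁻¹ =
        (e * l * e⁻¹ * (l : X)⁻¹) * ((l : X) * (e * m * e⁻¹ * (m : X)⁻¹) * (l : X)⁻¹)
      group
    rw [e1, map_mul, htriv l l.2 ⟨_, hmem m m.2⟩])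
  have hker : commutator L ≤ ψ.ker := by
    rw [commutator_def, Subgroup.commutator_le]
    intro x _ y _
    rw [MonoidHom.mem_ker, map_commutatorElement, commutatorElement_eq_one_iff_commute]
    exact hcomm _ _
  have hLtop : commutator L = ⊤ := by
    apply Subgroup.map_injective L.subtype_injective
    rw [Subgroup.map_subtype_commutator, hL, ← MonoidHom.range_eq_map, Subgroup.range_subtype]
  have hψ : ψ ⟨a, ha⟩ = 1 := MonoidHom.mem_ker.mp (hker (hLtop ▸ Subgroup.mem_top _))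
  have hd : (⟨_, hmem a ha⟩ : C) ∈ Cfsg.pPrimeCore 2 C := (QuotientGroup.eq_one_iff _).mp hψ
  obtain ⟨j, hj⟩ := h2 ⟨_, Subgroup.mem_zpowers _⟩
  have h1 : (⟨_, hmem a ha⟩ : C) = 1 := by
    refine Comp.eq_one_of_pow_eq_one (p := 2) (k := j) ?_
      (fun h => Comp.not_dvd_card_pPrimeCore 2 (G := C) (h.trans (Subgroup.orderOf_dvd_natCard _ hd)))
      (pow_orderOf_eq_one _)
    refine Subtype.ext ?_
    simpa using congrArg Subtype.val hj
  exact mul_inv_eq_one.mp (congrArg Subtype.val h1)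

/-- A 2-element of `N(D)` centralising an admissible `D` and lying in the Sylow group lies in `D`. -/
theorem mem_of_goldOK {P D : Subgroup X} (h : H71.GoldOK P D 2) (hP : IsPGroup 2 P) {u : X}
    (hu : u ∈ P) (huD : u ∈ Subgroup.centralizer (D : Set X)) : u ∈ D := by
  have : Fact (Nat.Prime 2) := ⟨Nat.prime_two⟩
  obtain ⟨hDP, hcent, ⟨-, -, hcomm, -, hsup⟩, -⟩ := h
  set O := (Cfsg.pPrimeCore 2 ↥(Subgroup.normalizer (D : Set X))).map
    (Subgroup.normalizer (D : Set X)).subtype with hO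
  have hu' := hcent huD
  rw [← hsup] at hu'
  have hsets : ((O ⊔ D : Subgroup X) : Set X) = (O : Set X) * (D : Set X) :=
    Subgroup.coe_mul_of_left_le_normalizer_right O D (Subgroup.centralizer_le_normalizer _ |>.trans'
      fun o ho => Subgroup.mem_centralizer_iff.mpr fun d hd => (hcomm o ho d hd).symm)
  rw [← SetLike.mem_coe, hsets] at hu'
  obtain ⟨o, ho, d, hd, rfl⟩ := hu'
  have hoP : o ∈ P := by simpa using mul_mem hu (inv_mem (hDP hd))
  have ho1 : o = 1 := by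
    have hOc : ¬ 2 ∣ Nat.card O := by
      rw [hO, Comp.card_map_subtype]
      exact Comp.not_dvd_card_pPrimeCore 2
    exact (Subgroup.mem_bot).mp (Comp.inf_eq_bot_of_isPGroup hP hOc ▸ ⟨hoP, ho⟩)
  subst ho1
  simpa using hd

/-- The index in a join with a normal subgroup. -/
theorem relIndex_sup_normal (S M : Subgroup X) [M.Normal] : S.relIndex (S ⊔ M) = S.relIndex M := by
  have hcard : ∀ {A B : Subgroup X}, A ≤ B → Nat.card A * A.relIndex B = Nat.card B := fun {A B} h => by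
    rw [← Subgroup.relIndex_bot_left A, ← Subgroup.relIndex_bot_left B,
      Subgroup.relIndex_mul_relIndex _ _ _ bot_le h]
  have h2 := hcard (le_sup_right : M ≤ S ⊔ M)
  have h3 := hcard (le_sup_left : S ≤ S ⊔ M)
  have h4 := hcard (inf_le_right : S ⊓ M ≤ M)
  have h5 := hcard (inf_le_left : S ⊓ M ≤ S)
  rw [Subgroup.relIndex_sup_right] at h2
  rw [Subgroup.inf_relIndex_right] at h4
  rw [Subgroup.inf_relIndex_left] at h5
  rw [← h2, ← h4, ← h5] at h3
  have hne : M.relIndex S ≠ 0 := (Subgroup.index_ne_zero_of_finite : (M.subgroupOf S).index ≠ 0)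
  change _ * M.relIndex S * _ = _ at h3
  refine Nat.eq_of_mul_eq_mul_left (Nat.mul_pos (Nat.card_pos (α := ↥(S ⊓ M))) (Nat.pos_of_ne_zero hne)) ?_
  rw [h3]
  ring

/-- A Sylow 2-subgroup of `E` together with an element centralising it. -/
theorem join_sylow (E S : Subgroup X) [hEn : E.Normal] (hS : S ≤ E) (hS2 : IsPGroup 2 S)
    (hSyl : ¬ 2 ∣ S.relIndex E) {a : X} (ha : orderOf a = 2)
    (haS : a ∈ Subgroup.centralizer (S : Set X)) :
    IsPGroup 2 (S ⊔ Subgroup.zpowers a : Subgroup X) ∧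
      ¬ 2 ∣ (S ⊔ Subgroup.zpowers a).relIndex (E ⊔ Subgroup.zpowers a) ∧
      (S ⊔ Subgroup.zpowers a) ⊓ E ≤ S := by
  have : Fact (Nat.Prime 2) := ⟨Nat.prime_two⟩
  have hP : IsPGroup 2 (S ⊔ Subgroup.zpowers a : Subgroup X) := by
    refine hS2.to_sup_of_normal_left' (IsPGroup.of_card (n := 1) (by rw [Nat.card_zpowers, ha, pow_one])) ?_
    rw [Subgroup.zpowers_le]
    exact Subgroup.centralizer_le_normalizer _ haS
  have hinf : (S ⊔ Subgroup.zpowers a) ⊓ E ≤ S := by
    have h1 : S ≤ (S ⊔ Subgroup.zpowers a) ⊓ E := le_inf le_sup_left hS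
    have h2 : IsPGroup 2 ((S ⊔ Subgroup.zpowers a) ⊓ E : Subgroup X) := hP.to_le inf_le_left
    obtain ⟨n, hn⟩ := IsPGroup.iff_card.mp h2
    have h4 : S.relIndex ((S ⊔ Subgroup.zpowers a) ⊓ E) ∣ S.relIndex E :=
      ⟨_, (Subgroup.relIndex_mul_relIndex _ _ _ h1 inf_le_right).symm⟩
    have h6 : S.relIndex ((S ⊔ Subgroup.zpowers a) ⊓ E) ∣
        Nat.card ((S ⊔ Subgroup.zpowers a) ⊓ E : Subgroup X) := Subgroup.relIndex_dvd_card _ _
    rw [hn] at h6
    obtain ⟨j, -, hj⟩ := (Nat.dvd_prime_pow Nat.prime_two).mp h6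
    refine Subgroup.relIndex_eq_one.mp ?_
    rw [hj]
    by_contra hne
    have : j ≠ 0 := fun h0 => hne (by simp [h0])
    exact hSyl ((dvd_pow_self 2 this).trans (hj ▸ h4))
  refine ⟨hP, ?_, hinf⟩
  intro h
  have hsup : S ⊔ Subgroup.zpowers a ⊔ E = E ⊔ Subgroup.zpowers a := by
    rw [sup_right_comm, sup_eq_right.mpr hS]
  rw [← hsup, relIndex_sup_normal] at h
  exact hSyl (h.trans (Subgroup.relIndex_dvd_of_le_left E le_sup_left))

/-- An involution centralising a Sylow 2-subgroup of `E` and lying in a perfect group that centralises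
it too is isolated in `E⟨a⟩`, hence centralises `E` when `O(E) = 1`. -/
theorem involution_centralizes (E S L : Subgroup X) [hEn : E.Normal] (hL : ⁅L, L⁆ = L)
    (hcore : Cfsg.pPrimeCore 2 E = ⊥)
    (hS : S ≤ E) (hS2 : IsPGroup 2 S) (hSyl : ¬ 2 ∣ S.relIndex E)
    (hLS : L ≤ Subgroup.centralizer (S : Set X)) {a : X} (ha : a ∈ L) (ha2 : orderOf a = 2) :
    a ∈ Subgroup.centralizer (E : Set X) := by
  have : Fact (Nat.Prime 2) := ⟨Nat.prime_two⟩
  obtain ⟨hP2, hPidx, hPE⟩ := join_sylow E S hS hS2 hSyl ha2 (hLS ha)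
  set P := S ⊔ Subgroup.zpowers a
  set Y := E ⊔ Subgroup.zpowers a with hY
  have hPY : P ≤ Y := sup_le_sup_right hS _
  have haP : a ∈ P := Subgroup.mem_sup_right (Subgroup.mem_zpowers a)
  set T : Sylow 2 Y := (hP2.comap_subtype (K := Y)).toSylow hPidx
  have hT : (T : Subgroup Y) = P.subgroupOf Y := rfl
  set a' : Y := ⟨a, hPY haP⟩
  have ha' : orderOf a' = 2 := by rw [← Subgroup.orderOf_coe]; exact ha2
  -- one step of fusion
  have hstep : ∀ (D : Subgroup Y) (x : Y), H71.GoldOK (T : Subgroup Y) D 2 →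
      x ∈ Subgroup.normalizer (D : Set Y) → a' ∈ D → x⁻¹ * a' * x = a' := by
    intro D x hD hx haD
    set Q : Subgroup Y := D ⊓ E.subgroupOf Y with hQ
    have hDP : D ≤ (T : Subgroup Y) := hD.1
    have hQS : Q.map Y.subtype ≤ S := by
      rintro _ ⟨q, hq, rfl⟩
      exact hPE ⟨hDP hq.1, hq.2⟩
    -- `x = a^i e`
    have hcE : ((E ⊔ Subgroup.zpowers a : Subgroup X) : Set X) = (E : Set X) * (Subgroup.zpowers a : Set X) :=
      Subgroup.normal_mul E _
    have hx' : (x : X)⁻¹ ∈ ((E ⊔ Subgroup.zpowers a : Subgroup X) : Set X) := inv_mem x.2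
    rw [hcE] at hx'
    obtain ⟨e, he, b, hb, hxe⟩ := hx'
    have hbY : b ∈ Y := Subgroup.mem_sup_right hb
    have heY : e ∈ Y := Subgroup.mem_sup_left he
    have hxe' : x⁻¹ = ⟨e, heY⟩ * ⟨b, hbY⟩ := Subtype.ext hxe.symm
    obtain ⟨i, rfl⟩ := Subgroup.mem_zpowers_iff.mp hb
    have hbD : (⟨a ^ i, hbY⟩ : Y) ∈ D := by
      have : (⟨a ^ i, hbY⟩ : Y) = a' ^ i := Subtype.ext (by simp [a'])
      rw [this]
      exact zpow_mem haD i
    have heD : (⟨e, heY⟩ : Y) ∈ Subgroup.normalizer (D : Set Y) := by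
      have : (⟨e, heY⟩ : Y) = x⁻¹ * (⟨a ^ i, hbY⟩ : Y)⁻¹ := by rw [hxe', mul_inv_cancel_right]
      rw [this]
      exact mul_mem (inv_mem hx) (Subgroup.le_normalizer (inv_mem hbD))
    have : (E.subgroupOf Y).Normal := hEn.comap Y.subtype
    have hnQ : ∀ y : Y, y ∈ Subgroup.normalizer (D : Set Y) → y ∈ Subgroup.normalizer (Q : Set Y) :=
      fun y hy => Comp.inf_le_normalizer (T := Subgroup.normalizer (D : Set Y)) le_rfl
        Comp.le_normalizer_of_normal hy
    have haQ : ∀ q ∈ Q, a' * q = q * a' := fun q hq =>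
      Subtype.ext (Subgroup.mem_centralizer_iff.mp (hLS ha) q (hQS ⟨q, hq, rfl⟩)).symm
    -- every element of `D` is an element of `Q` times a power of `a`
    have hDdec : ∀ d ∈ D, ∃ q ∈ Q, ∃ j : ℤ, d = q * a' ^ j := by
      intro d hd
      have hd' : (d : X) ∈ ((E ⊔ Subgroup.zpowers a : Subgroup X) : Set X) := d.2
      rw [hcE] at hd'
      obtain ⟨f, hf, c, hc, hfc⟩ := hd'
      obtain ⟨j, rfl⟩ := Subgroup.mem_zpowers_iff.mp hc
      refine ⟨d * (a' ^ j)⁻¹, ⟨D.mul_mem hd (D.inv_mem (D.zpow_mem haD j)), ?_⟩, j, by rw [inv_mul_cancel_right]⟩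
      show ((d * (a' ^ j)⁻¹ : Y) : X) ∈ E
      have h5 : ((d * (a' ^ j)⁻¹ : Y) : X) = f := by
        simp [a', ← hfc]
      rw [h5]; exact hf
    -- 2-elements of `C(Q)` in `E`
    set Cy : Subgroup Y := Subgroup.centralizer (Q : Set Y)
    set N := Subgroup.normalizer (D : Set Y)
    set D0 := D ⊓ Cy with hD0
    have hTN : ∀ u ∈ ((T : Subgroup Y) ⊓ N) ⊓ Cy, u ∈ D0 := by
      intro u hu
      refine ⟨mem_of_goldOK hD T.2 hu.1.1 (Subgroup.mem_centralizer_iff.mpr fun d hd => ?_), hu.2⟩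
      obtain ⟨q, hq, j, rfl⟩ := hDdec d hd
      have h1 := Subgroup.mem_centralizer_iff.mp hu.2 q hq
      have h2 : Commute a' u := by
        refine Subtype.ext ?_
        have hle : P ≤ Subgroup.centralizer ({a} : Set X) := by
          refine sup_le (fun s hs => Subgroup.mem_centralizer_singleton_iff.mpr
            (Subgroup.mem_centralizer_iff.mp (hLS ha) s hs)) ?_
          rw [Subgroup.zpowers_le]
          exact Subgroup.mem_centralizer_singleton_iff.mpr rfl
        exact (Subgroup.mem_centralizer_singleton_iff.mp (hle hu.1.1)).symm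
      show q * a' ^ j * u = u * (q * a' ^ j)
      rw [mul_assoc, (h2.zpow_left j).eq, ← mul_assoc, h1, mul_assoc]
    have hD0N : D0 ≤ N := inf_le_left.trans Subgroup.le_normalizer
    have hsyl0 : ¬ 2 ∣ D0.relIndex (N ⊓ Cy) := by
      have hM : ((N ⊓ Cy).subgroupOf N).Normal := by
        refine ⟨fun y hy g => ⟨(g * y * g⁻¹ : N).2, ?_⟩⟩
        exact Comp.conj_mem_of_le_normalizer
          (Comp.le_normalizer_centralizer (T := N) (H := Q) (fun z hz => hnQ z hz)) g.2 hy.2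
      intro h
      have h3 := H71.relIndex_dvd_index_normal (((T : Subgroup Y) ⊓ N).subgroupOf N) ((N ⊓ Cy).subgroupOf N)
      rw [Subgroup.relIndex_subgroupOf inf_le_left] at h3
      have h4 : D0.relIndex (N ⊓ Cy) ∣ ((T : Subgroup Y) ⊓ N).relIndex (N ⊓ Cy) := by
        rw [← Subgroup.inf_relIndex_right ((T : Subgroup Y) ⊓ N)]
        exact Subgroup.relIndex_dvd_of_le_left _ fun u hu => hTN u ⟨hu.1, hu.2.2⟩
      exact hD.2.2.2 ((h.trans h4).trans h3)
    have hall : ∀ c ∈ E ⊓ Subgroup.centralizer (Q.map Y.subtype : Set X),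
        IsPGroup 2 (Subgroup.zpowers c) → c ∈ Q.map Y.subtype := by
      intro c hc hc2
      have hcY : c ∈ Y := Subgroup.mem_sup_left hc.1
      have hcC : (⟨c, hcY⟩ : Y) ∈ Cy := Subgroup.mem_centralizer_iff.mpr fun q hq =>
        Subtype.ext (Subgroup.mem_centralizer_iff.mp hc.2 q ⟨q, hq, rfl⟩)
      have hD02 : IsPGroup 2 D0 := T.2.to_le (inf_le_left.trans hDP)
      obtain ⟨R, hR⟩ := (hD02.comap_subtype (K := Cy)).exists_le_sylow
      -- `D0` is a Sylow subgroup of `Cy`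
      have hRD : (R : Subgroup Cy) = D0.subgroupOf Cy := by
        by_contra hne
        have : Group.IsNilpotent (R : Subgroup Cy) := R.2.isNilpotent
        have h1 : (D0.subgroupOf Cy).subgroupOf R < ⊤ :=
          lt_top_iff_ne_top.mpr fun h => hne (le_antisymm (Subgroup.subgroupOf_eq_top.mp h) hR)
        obtain ⟨r, hr, hr'⟩ := SetLike.exists_of_lt (Group.normalizerCondition_of_isNilpotent _ h1)
        set q : Y := ((r : Cy) : Y)
        have hqC : q ∈ Cy := (r : Cy).2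
        have hqD0 : ∀ d ∈ D0, q * d * q⁻¹ ∈ D0 := fun d hd =>
          (Subgroup.mem_normalizer_iff.mp hr (⟨⟨d, hd.2⟩, hR (show (⟨d, hd.2⟩ : Cy) ∈ D0.subgroupOf Cy from hd)⟩ : (R : Subgroup Cy))).mp hd
        have hqN : q ∈ N := by
          refine Subgroup.mem_normalizer_fintype fun d hd => ?_
          obtain ⟨v, hv, j, rfl⟩ := hDdec d hd
          rw [show q * (v * a' ^ j) * q⁻¹ = (q * v * q⁻¹) * (q * a' ^ j * q⁻¹) by group,
            ← Subgroup.mem_centralizer_iff.mp hqC v hv, mul_inv_cancel_right]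
          have haD0 : a' ^ j ∈ D0 := ⟨zpow_mem haD j, zpow_mem
            (Subgroup.mem_centralizer_iff.mpr fun v hv => (haQ v hv).symm) j⟩
          exact mul_mem hv.1 (hqD0 _ haD0).1
        -- `D0⟨q⟩` is a larger 2-subgroup of `N ∩ Cy`
        have hzq : IsPGroup 2 (Subgroup.zpowers q) := by
          have h5 := (R.2.to_le (Subgroup.zpowers_le.mpr r.2)).map Cy.subtype
          rwa [MonoidHom.map_zpowers] at h5
        have hnorm : Subgroup.zpowers q ≤ Subgroup.normalizer (D0 : Set Y) := by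
          rw [Subgroup.zpowers_le]
          exact Subgroup.mem_normalizer_fintype hqD0
        have hbig := hD02.to_sup_of_normal_left' hzq hnorm
        have hle : D0 ⊔ Subgroup.zpowers q ≤ N ⊓ Cy :=
          sup_le (le_inf hD0N inf_le_right) (Subgroup.zpowers_le.mpr ⟨hqN, hqC⟩)
        have hq0 : q ∈ D0 := by
          have h6 : D0.relIndex (D0 ⊔ Subgroup.zpowers q) ∣ D0.relIndex (N ⊓ Cy) :=
            ⟨_, (Subgroup.relIndex_mul_relIndex _ _ _ le_sup_left hle).symm⟩
          obtain ⟨n, hn⟩ := IsPGroup.iff_card.mp hbig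
          have h7 := hn ▸ Subgroup.relIndex_dvd_card D0 (D0 ⊔ Subgroup.zpowers q)
          obtain ⟨j, -, hj⟩ := (Nat.dvd_prime_pow Nat.prime_two).mp h7
          rcases Nat.eq_zero_or_pos j with h0 | h0
          · rw [h0, pow_zero] at hj
            exact Subgroup.relIndex_eq_one.mp hj (Subgroup.mem_sup_right (Subgroup.mem_zpowers q))
          · exact absurd ((dvd_pow_self 2 h0.ne').trans (hj ▸ h6)) hsyl0
        exact hr' hq0
      have hcp : IsPGroup 2 (Subgroup.zpowers (⟨⟨c, hcY⟩, hcC⟩ : Cy)) :=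
        (hc2.comap_of_injective (Y.subtype.comp Cy.subtype)
          (Y.subtype_injective.comp Cy.subtype_injective)).to_le
          (Subgroup.zpowers_le.mpr (Subgroup.mem_zpowers c))
      obtain ⟨R', hR'⟩ := hcp.exists_le_sylow
      obtain ⟨g, hg⟩ := MulAction.exists_smul_eq Cy R' R
      have h8 : g * ⟨⟨c, hcY⟩, hcC⟩ * g⁻¹ ∈ (R : Subgroup Cy) := by
        rw [← hg]
        exact Subgroup.smul_mem_pointwise_smul _ (MulAut.conj g) _ (hR' (Subgroup.mem_zpowers _))
      rw [hRD] at h8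
      have h9 : (g : Y) * ⟨c, hcY⟩ * (g : Y)⁻¹ ∈ Q :=
        ⟨h8.1, Subgroup.Normal.conj_mem ‹(E.subgroupOf Y).Normal› ⟨c, hcY⟩ hc.1 g⟩
      have h10 := Subgroup.mem_centralizer_iff.mp g.2 _ h9
      have h11 : (g : Y) * ⟨c, hcY⟩ * (g : Y)⁻¹ = ⟨c, hcY⟩ := by
        have h12 : (g : Y)⁻¹ * ((g : Y) * ⟨c, hcY⟩ * (g : Y)⁻¹) * g = (g : Y) * ⟨c, hcY⟩ * (g : Y)⁻¹ := by
          rw [mul_assoc, h10, inv_mul_cancel_left]
        simpa [mul_assoc] using h12.symm
      exact ⟨⟨c, hcY⟩, h11 ▸ h9, rfl⟩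
    have heQ : e ∈ Subgroup.normalizer (Q.map Y.subtype : Set X) :=
      Subgroup.le_normalizer_map _ ⟨⟨e, heY⟩, hnQ _ heD, rfl⟩
    have h2el : IsPGroup 2 (Subgroup.zpowers (e * a * e⁻¹ * a⁻¹)) := by
      have h13 : (⟨e, heY⟩ : Y) * a' * (⟨e, heY⟩ : Y)⁻¹ * a'⁻¹ ∈ D :=
        mul_mem ((Subgroup.mem_normalizer_iff.mp heD a').mp haD) (inv_mem haD)
      exact ((T.2.to_le hDP).map Y.subtype).to_le (Subgroup.zpowers_le.mpr ⟨_, h13, rfl⟩)
    have h14 := step_fixes E S L hL hS hLS ha hQS ((T.2.to_le (inf_le_left.trans hDP)).map _) hall he heQ h2el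
    refine Subtype.ext ?_
    have h15 : (x : X)⁻¹ = e * a ^ i := hxe.symm
    show (x : X)⁻¹ * a * x = a
    rw [h15, show (x : X) = (e * a ^ i)⁻¹ by rw [← h15, inv_inv],
      show e * a ^ i * a * (e * a ^ i)⁻¹ = e * a * e⁻¹ by group, h14]
  -- chains fix `a`
  have hchain : ∀ (l : List (Subgroup Y × Y)), H71.GoldChain (T : Subgroup Y) 2 ({a'} : Set Y) l →
      ((l.map Prod.snd).prod)⁻¹ * a' * (l.map Prod.snd).prod = a' := by
    intro l
    induction l with
    | nil => intro _; simp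
    | cons d l ih =>
      obtain ⟨D, x⟩ := d
      intro h
      obtain ⟨hok, hx, haD, hrest⟩ := h
      have h1 := hstep D x hok hx (haD rfl)
      rw [Set.image_singleton, h1] at hrest
      have h2 := ih hrest
      simp only [List.map_cons, List.prod_cons]
      calc (x * (l.map Prod.snd).prod)⁻¹ * a' * (x * (l.map Prod.snd).prod)
          = ((l.map Prod.snd).prod)⁻¹ * (x⁻¹ * a' * x) * (l.map Prod.snd).prod := by group
        _ = a' := by rw [h1, h2]
  have haT : a' ∈ (T : Subgroup Y) := haP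
  have hiso : ∀ g : Y, g * a' * g⁻¹ ∈ T → g * a' * g⁻¹ = a' := by
    intro g hg
    have hR : H71.cjBy g⁻¹ (Subgroup.zpowers a') ≤ (T : Subgroup Y) := by
      rw [H71.cjBy, inv_inv, MonoidHom.map_zpowers, Subgroup.zpowers_le]
      exact hg
    obtain ⟨c, l, -, hc, hl, he⟩ := H71.goldGood_sylow T _ _ g⁻¹ (Nat.le_add_left _ _)
      (Subgroup.zpowers_le.mpr haT) hR
    have h2 : a' * c = c * a' := Subgroup.mem_centralizer_iff.mp hc a' (Subgroup.mem_zpowers a')
    have h3 := hchain l (hl.mono (Set.singleton_subset_iff.mpr (Subgroup.mem_zpowers a')))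
    rw [← inv_inv g, he]
    calc (c * (l.map Prod.snd).prod)⁻¹ * a' * (c * (l.map Prod.snd).prod)⁻¹⁻¹
        = ((l.map Prod.snd).prod)⁻¹ * (c⁻¹ * (a' * c)) * (l.map Prod.snd).prod := by group
      _ = a' := by rw [h2, inv_mul_cancel_left, h3]
  have hz := H85.zStar (H85.isolated_of_sylow T ha' haT hiso)
  rw [Subgroup.mem_centralizer_iff]
  intro e he
  have heY : e ∈ Y := Subgroup.mem_sup_left he
  set w : Y := a' * ⟨e, heY⟩ * a'⁻¹ * (⟨e, heY⟩ : Y)⁻¹
  have hwE : (w : X) ∈ E := mul_mem (hEn.conj_mem e he a) (inv_mem he)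
  set M : Subgroup E := ((Cfsg.pPrimeCore 2 Y).map Y.subtype).subgroupOf E
  have : (Cfsg.pPrimeCore 2 Y).Normal := H1.pPrimeCore_normal' 2 _
  have hMn : M.Normal := by
    refine ⟨fun m hm f => ?_⟩
    obtain ⟨m', hm', hmm⟩ := hm
    refine ⟨⟨f, Subgroup.mem_sup_left f.2⟩ * m' * (⟨f, Subgroup.mem_sup_left f.2⟩ : Y)⁻¹,
      Subgroup.Normal.conj_mem ‹_› m' hm' _, ?_⟩
    have hmm' : (m' : X) = m := hmm
    simp [hmm']
  have hMc : (Nat.card M).Coprime 2 := by
    refine Comp.coprime_iff_not_dvd.mpr fun hd => Comp.not_dvd_card_pPrimeCore 2 (G := Y) ?_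
    rw [← Comp.card_map_subtype]
    exact hd.trans (Subgroup.card_comap_dvd_of_injective _ _ E.subtype_injective)
  have hwM : (⟨w, hwE⟩ : E) ∈ M := ⟨w, hz ⟨e, heY⟩, rfl⟩
  have := Comp.le_pPrimeCore hMn hMc hwM
  rw [hcore, Subgroup.mem_bot] at this
  have hw1 : a * e * a⁻¹ * e⁻¹ = 1 := congrArg Subtype.val this
  have hw2 : a * e * a⁻¹ = e := mul_inv_eq_one.mp hw1
  exact (mul_inv_eq_iff_eq_mul.mp hw2).symm

/-- A simple perfect group of even order centralising a Sylow 2-subgroup of the normal subgroup `E`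
with trivial odd core centralises `E`. -/
theorem simple_centralizes (E S L : Subgroup X) [hEn : E.Normal] (hL : ⁅L, L⁆ = L) [IsSimpleGroup L]
    (hL2 : 2 ∣ Nat.card L) (hcore : Cfsg.pPrimeCore 2 E = ⊥)
    (hS : S ≤ E) (hS2 : IsPGroup 2 S) (hSyl : ¬ 2 ∣ S.relIndex E)
    (hLS : L ≤ Subgroup.centralizer (S : Set X)) : L ≤ Subgroup.centralizer (E : Set X) := by
  have : Fact (Nat.Prime 2) := ⟨Nat.prime_two⟩
  obtain ⟨a, ha⟩ := exists_prime_orderOf_dvd_card' 2 hL2
  have h1 := involution_centralizes E S L hL hcore hS hS2 hSyl hLS a.2 (by rw [Subgroup.orderOf_coe]; exact ha)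
  have : ((Subgroup.centralizer (E : Set X)).subgroupOf L).Normal :=
    (inferInstance : (Subgroup.centralizer (E : Set X)).Normal).comap L.subtype
  rcases IsSimpleGroup.eq_bot_or_eq_top_of_normal _ this with h | h
  · have h2 : a = 1 := by
      rw [← Subgroup.mem_bot, ← h]
      exact h1
    rw [h2, orderOf_one] at ha
    omega
  · exact Subgroup.subgroupOf_eq_top.mp h

end Cfsg.Agent.H9.QT
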